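import Cfsg.Agent.FiOuter.Core

/-!
Generated: tables of transpositions of the presented Fischer group, by steps from the letters.
-/

set_option autoImplicit false
set_option Elab.async false

namespace Cfsg.Lib.FiOuter

open Cfsg.Lib.FiThree Cfsg.Lib.FiPres

/-- A letter's table. -/
def t0 : ℕ := (sigTabs.getD 0 (0, 0)).1

theorem ht0 : TT 0 t0 := letter_table 0

/-- A letter's table. -/
def t14 : ℕ := (sigTabs.getD 1 (0, 0)).1

theorem ht14 : TT 14 t14 := letter_table 1

/-- A letter's table. -/
def t12 : ℕ := (sigTabs.getD 2 (0, 0)).1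

theorem ht12 : TT 12 t12 := letter_table 2

/-- A letter's table. -/
def t10 : ℕ := (sigTabs.getD 3 (0, 0)).1

theorem ht10 : TT 10 t10 := letter_table 3

/-- A letter's table. -/
def t59 : ℕ := (sigTabs.getD 4 (0, 0)).1

theorem ht59 : TT 59 t59 := letter_table 4

/-- A letter's table. -/
def t110 : ℕ := (sigTabs.getD 5 (0, 0)).1

theorem ht110 : TT 110 t110 := letter_table 5

/-- A letter's table. -/
def t173 : ℕ := (sigTabs.getD 6 (0, 0)).1

theorem ht173 : TT 173 t173 := letter_table 6

/-- A letter's table. -/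
def t34 : ℕ := (sigTabs.getD 7 (0, 0)).1

theorem ht34 : TT 34 t34 := letter_table 7

/-- A letter's table. -/
def t86 : ℕ := (sigTabs.getD 8 (0, 0)).1

theorem ht86 : TT 86 t86 := letter_table 8

end Cfsg.Lib.FiOuter
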